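import Groth.Agent.Lib.ExchangeFP29.Rep
import Groth.Agent.Lib.DR.Coherent
import Groth.Agent.Lib.SchColim29.ProperSupportModel
import Groth.Agent.H54.BCX.Affine
import Groth.Agent.Lib.ZarCoh.FP
import Groth.Agent.H26.FreeCrit
import Groth.Agent.S0792
import Groth.Agent.S0017
import Groth.Agent.S9349

/-!
# Cohomology of flat finitely presented modules with proper support over a coherent ring
-/

set_option autoImplicit false
set_option linter.style.haveILetI false
set_option linter.unusedSectionVars false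

universe u

open CategoryTheory Limits AlgebraicGeometry Opposite TopologicalSpace

namespace Groth.Agent.H56.CohBase.FP

open Groth.Agent.Lib

theorem fp_of_fg_submodule {A : Type u} [CommRing A] (hA : DR.Coherent.IsCoh A)
    {F : Type u} [AddCommGroup F] [Module A F] [Module.Finite A F] [Module.Projective A F]
    (N : Submodule A F) (hN : N.FG) : Module.FinitePresentation A N := by
  obtain ⟨n, f, hf⟩ := Module.Finite.exists_fin' A F
  obtain ⟨s, hs⟩ := Module.projective_lifting_property f LinearMap.id hf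
  have hinj : Function.Injective s :=
    Function.LeftInverse.injective (g := f) fun x => LinearMap.congr_fun hs x
  have := DR.Coherent.fp_of_fg_pi hA n (N.map s) (hN.map s)
  exact Module.FinitePresentation.of_equiv (Submodule.equivMapOfInjective s hinj N).symm

/-- The homology of a complex of finite projective modules over a coherent ring. -/
theorem fp_homology {A : Type u} [CommRing A] (hA : DR.Coherent.IsCoh A) {ι : Type}
    {c : ComplexShape ι} (E : HomologicalComplex (ModuleCat.{u} A) c)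
    (hp : ∀ i, Module.Finite A (E.X i) ∧ Module.Projective A (E.X i)) (n : ι) :
    Module.FinitePresentation A (E.homology n) := by
  let S := E.sc n
  haveI : Module.Finite A S.X₁ := (hp _).1
  haveI : Module.Finite A S.X₂ := (hp _).1
  haveI : Module.Finite A S.X₃ := (hp _).1
  haveI : Module.Projective A S.X₂ := (hp _).2
  haveI : Module.Projective A S.X₃ := (hp _).2
  haveI : Module.Finite A (LinearMap.range S.g.hom) := Module.Finite.range _
  haveI : Module.FinitePresentation A (LinearMap.range S.g.hom) :=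
    fp_of_fg_submodule hA _ (Module.Finite.iff_fg.1 (Module.Finite.range _))
  haveI : Module.FinitePresentation A S.X₂ := Module.finitePresentation_of_projective _ _
  have h2 : (LinearMap.ker S.g.hom).FG := by
    have := Module.FinitePresentation.fg_ker S.g.hom.rangeRestrict S.g.hom.surjective_rangeRestrict
    rwa [LinearMap.ker_rangeRestrict] at this
  haveI : Module.FinitePresentation A (LinearMap.ker S.g.hom) := fp_of_fg_submodule hA _ h2
  haveI : Module.FinitePresentation A S.moduleCatLeftHomologyData.H :=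
    Module.finitePresentation_of_surjective (LinearMap.range S.moduleCatToCycles).mkQ
      (Submodule.mkQ_surjective _)
      (((Submodule.ker_mkQ (LinearMap.range S.moduleCatToCycles)).symm ▸
        Module.Finite.iff_fg.1 (Module.Finite.range (R := A) S.moduleCatToCycles) :))
  exact Module.FinitePresentation.of_equiv (S.moduleCatHomologyIso).symm.toLinearEquiv

theorem smulAb_push {X Y : Scheme.{u}} (g : X ⟶ Y) (G : X.Modules) (r : Coh.Γtop Y) :
    Coh.smulAb ((Scheme.Modules.pushforward g).obj G) r =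
      (CohTop.push g.base).map (Coh.smulAb G (g.appTop r)) := by
  refine Sheaf.hom_ext (NatTrans.ext (funext fun O ↦ ?_))
  refine AddCommGrpCat.hom_ext (AddMonoidHom.ext fun m ↦ ?_)
  refine congrArg (fun k : Γ(X, g ⁻¹ᵁ O.unop) ↦ k • (show Γ(G, g ⁻¹ᵁ O.unop) from m)) ?_
  exact ConcreteCategory.congr_hom (g.naturality (homOfLE (le_top (a := O.unop))).op) r

/-- Cohomology of a direct image along an affine morphism, linearly over the base ring. -/
theorem nonempty_pushEdgeK {A : Type u} [CommRing A] {Z X : Scheme.{u}}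
    [X.Over (Spec (CommRingCat.of A))] [Z.Over (Spec (CommRingCat.of A))] (i : Z ⟶ X) [IsAffineHom i]
    (hi : i ≫ (X ↘ Spec (CommRingCat.of A)) = (Z ↘ Spec (CommRingCat.of A)))
    (H : Z.Modules) [H.IsQuasicoherent] (p : ℕ) :
    Nonempty (Coh.HH Z H p ≃ₗ[A] Coh.HH X ((Scheme.Modules.pushforward i).obj H) p) := by
  have hs : ∀ (a : A) (x : Coh.HH X ((Scheme.Modules.pushforward i).obj H) p),
      CohPull.pushEdge i H p (a • x) = a • CohPull.pushEdge i H p x := fun a x => by
    refine Eq.trans ?_ ((H54.BCX.PushEdge.pushEdge_smulAb i H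
      (i.appTop (Coh.toGlobal (X ↘ Spec (CommRingCat.of A)) a)) p x).trans ?_)
    · exact congrArg (fun φ => CohPull.pushEdge i H p (Sheaf.H.map φ p x))
        (smulAb_push i H (Coh.toGlobal (X ↘ Spec (CommRingCat.of A)) a))
    · refine congrArg (fun r : Coh.Γtop Z => r • CohPull.pushEdge i H p x) ?_
      show _ = (Z ↘ Spec (CommRingCat.of A)).appTop _
      rw [← hi]
      rfl
  exact ⟨(LinearEquiv.ofBijective
    { toFun := CohPull.pushEdge i H p, map_add' := map_add _, map_smul' := hs }
    (H54.BCX.PushEdge.pushEdge_bijective i H p)).symm⟩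

theorem proper_case {R : Type u} [CommRing R] (hR : DR.Coherent.IsCoh R) {X : Scheme.{u}}
    [X.Over (Spec (CommRingCat.of R))] [IsProper (X ↘ Spec (CommRingCat.of R))]
    [LocallyOfFinitePresentation (X ↘ Spec (CommRingCat.of R))] (G : X.Modules) [G.IsQuasicoherent]
    (hG : CohB1.IsFP G) (hflat : FlatMod.IsFlatOver (X ↘ Spec (CommRingCat.of R)) G) (p : ℕ) :
    Module.FinitePresentation R (Coh.HH X G p) := by
  obtain ⟨P, hP, he⟩ := ExchangeFP29.Rep.exists_rep R G hG hflat
  obtain ⟨e⟩ := he p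
  haveI := fp_homology hR P hP.fin (-(p : ℤ))
  exact Module.FinitePresentation.of_equiv ((_root_.ZarCoh.Exchange.Main.tOne R P (-(p : ℤ))).symm.trans
    ((_root_.ZarCoh.Exchange.Main.linearEquivApp R G e (ModuleCat.of R R)).trans
      (Curves.LES.isoK R (_root_.ZarCoh.Exchange.Main.oneIso R G) p)))

theorem main {R : Type u} [CommRing R] (hR : DR.Coherent.IsCoh R) {X : Scheme.{u}}
    [X.Over (Spec (CommRingCat.of R))] [QuasiCompact (X ↘ Spec (CommRingCat.of R))]
    [QuasiSeparated (X ↘ Spec (CommRingCat.of R))]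
    [LocallyOfFinitePresentation (X ↘ Spec (CommRingCat.of R))] (G : X.Modules) (hG : CohB1.IsFP G)
    (hflat : FlatMod.IsFlatOver (X ↘ Spec (CommRingCat.of R)) G)
    (hsupp : ClSub.IsProperOver (X ↘ Spec (CommRingCat.of R)) (CohB1.support G)) (p : ℕ) :
    Module.FinitePresentation R (Coh.HH X G p) := by
  haveI : G.IsQuasicoherent := H26.FreeCrit.isQuasicoherent_of_isFP hG
  obtain ⟨A₀, hA₀, b, X₀, f₀, q, F₀, hft, hqc, hsq, hF₀, hfl₀, hsp₀, ⟨eF⟩⟩ :=
    SchColim29.ProperSupportModel.exists_model (A := CommRingCat.of R) (X ↘ Spec (CommRingCat.of R)) G hG hflat hsupp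
  haveI := hA₀; haveI := hft; haveI := hqc
  obtain ⟨Z₀, i₀, hi₀, hp₀, H₀, hH₀q, hH₀ft, ⟨eH⟩⟩ :=
    (Groth.Agent.S0792.result f₀ F₀ hF₀.1 hF₀.2).1 hsp₀
  haveI := hi₀; haveI := hp₀
  haveI : H₀.IsQuasicoherent := hH₀q
  have hfH : FlatMod.IsFlatOver (i₀ ≫ f₀) H₀ := by
    refine (Groth.Agent.S9349.result i₀ f₀ H₀ hH₀q).2 fun x => ?_
    exact Flat55.FlatOverAt.of_iso f₀ eH.symm x (hfl₀ x)
  let i : pullback q i₀ ⟶ X := pullback.fst q i₀
  let r : pullback q i₀ ⟶ Z₀ := pullback.snd q i₀
  have H' : IsPullback r (i ≫ (X ↘ Spec (CommRingCat.of R))) (i₀ ≫ f₀) b :=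
    (IsPullback.of_hasPullback q i₀).flip.paste_vert hsq
  letI : (pullback q i₀).Over (Spec (CommRingCat.of R)) := ⟨i ≫ (X ↘ Spec (CommRingCat.of R))⟩
  haveI : IsProper ((pullback q i₀) ↘ Spec (CommRingCat.of R)) := MorphismProperty.of_isPullback H' hp₀
  haveI : IsLocallyNoetherian X₀ := LocallyOfFiniteType.isLocallyNoetherian f₀
  haveI : IsLocallyNoetherian Z₀ := LocallyOfFiniteType.isLocallyNoetherian (i₀ ≫ f₀)
  haveI : LocallyOfFinitePresentation (i₀ ≫ f₀) := inferInstance
  haveI : LocallyOfFinitePresentation ((pullback q i₀) ↘ Spec (CommRingCat.of R)) :=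
    MorphismProperty.of_isPullback H' ‹_›
  let H₁ := (Scheme.Modules.pullback r).obj H₀
  haveI : H₁.IsQuasicoherent := QCoh.Pullback.isQCoh_pullback r H₀
  haveI : Coh.IsQCoh H₀ := hH₀q
  obtain ⟨ebc⟩ := Groth.Agent.S0017.result i₀ q r i (IsPullback.of_hasPullback q i₀).flip H₀
  let eG : G ≅ (Scheme.Modules.pushforward i).obj H₁ :=
    eF.symm ≪≫ (Scheme.Modules.pullback q).mapIso eH.symm ≪≫ ebc
  obtain ⟨e⟩ := nonempty_pushEdgeK (A := R) i rfl H₁ p
  haveI := proper_case hR H₁
    (H47.FlatLimit.isFP_pullback r H₀ (ZarCoh.FP.isFP_of_isCoh H₀ ⟨hH₀q, hH₀ft⟩))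
    (fun x => Flat55.FlatOverAt.isFlatOverAt_baseChange (i₀ ≫ f₀) _ r b H' H₀ x (hfH _)) p
  exact Module.FinitePresentation.of_equiv (e.trans (Curves.LES.isoK R eG.symm p))

end Groth.Agent.H56.CohBase.FP
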